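import Mathlib

/-!
The norm of a finite extension of Dedekind domains modulo a maximal ideal, and near one.
-/

namespace Groth.UnramNorm

open IsLocalRing Module IsLocalization.AtPrime
open scoped nonZeroDivisors

variable {R S : Type*} [CommRing R] [CommRing S] [Algebra R S]

/-- The first two terms of the norm near one. -/
theorem exists_norm_one_add [Module.Free R S] [Module.Finite R S] (t : R) (y : S) :
    ∃ q : R, Algebra.norm R (1 + algebraMap R S t * y) = 1 + t * Algebra.trace R S y + t ^ 2 * q := by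
  obtain ⟨r, hr⟩ := Algebra.norm_one_add_smul t y
  exact ⟨r, by rw [← Algebra.smul_def, hr]; ring⟩

attribute [local instance] Ideal.Quotient.field

theorem norm_quotient_mk [IsLocalRing R] [Module.Free R S] [Module.Finite R S] (x : S) :
    Algebra.norm (R ⧸ maximalIdeal R)
        (Ideal.Quotient.mk (Ideal.map (algebraMap R S) (maximalIdeal R)) x) =
      Ideal.Quotient.mk (maximalIdeal R) (Algebra.norm R x) := by
  classical
  let b : Module.Basis (Module.Free.ChooseBasisIndex R S) R S := Module.Free.chooseBasis R S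
  rw [Algebra.norm_eq_matrix_det b, Algebra.norm_eq_matrix_det (basisQuotient b), RingHom.map_det]
  congr 1
  ext i j
  simp only [Algebra.leftMulMatrix_apply, Algebra.coe_lmul_eq_mul, LinearMap.toMatrix_apply,
    basisQuotient_apply, LinearMap.mul_apply', RingHom.mapMatrix_apply, Matrix.map_apply, ← map_mul,
    basisQuotient_repr]

section Loc

variable (p : Ideal R) [p.IsMaximal]
variable (Rₚ Sₚ : Type*) [CommRing Rₚ] [CommRing Sₚ] [Algebra R Rₚ] [IsLocalization.AtPrime Rₚ p]
variable [IsLocalRing Rₚ] [Algebra S Sₚ] [Algebra R Sₚ] [Algebra Rₚ Sₚ]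
variable [IsLocalization (Algebra.algebraMapSubmonoid S p.primeCompl) Sₚ]
variable [IsScalarTower R S Sₚ] [IsScalarTower R Rₚ Sₚ]

variable (S) in
theorem norm_quotient_eq_norm_localization_quotient (x : S) :
    Algebra.norm (R ⧸ p) (Ideal.Quotient.mk (Ideal.map (algebraMap R S) p) x) =
      (equivQuotMaximalIdeal p Rₚ).symm (Algebra.norm (Rₚ ⧸ maximalIdeal Rₚ)
        (algebraMap S (Sₚ ⧸ Ideal.map (algebraMap Rₚ Sₚ) (maximalIdeal Rₚ)) x)) := by
  have : IsScalarTower R (Rₚ ⧸ maximalIdeal Rₚ) (Sₚ ⧸ Ideal.map (algebraMap Rₚ Sₚ) (maximalIdeal Rₚ)) := by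
    apply IsScalarTower.of_algebraMap_eq'
    rw [IsScalarTower.algebraMap_eq R Rₚ (Rₚ ⧸ _), IsScalarTower.algebraMap_eq R Rₚ (Sₚ ⧸ _),
      ← RingHom.comp_assoc, ← IsScalarTower.algebraMap_eq Rₚ]
  rw [Algebra.norm_eq_of_equiv_equiv (equivQuotMaximalIdeal p Rₚ) (equivQuotientMapMaximalIdeal S p Rₚ Sₚ)]
  · congr
  · ext y
    simp only [equivQuotMaximalIdeal, RingHom.quotientKerEquivOfSurjective,
      RingEquiv.coe_ringHom_trans, RingHom.coe_comp, RingHom.coe_coe, Function.comp_apply,
      Ideal.quotEquivOfEq_mk, RingHom.quotientKerEquivOfRightInverse.apply, RingHom.kerLift_mk,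
      equivQuotientMapMaximalIdeal, Ideal.Quotient.algebraMap_quotient_map_quotient]
    rw [← IsScalarTower.algebraMap_apply, ← IsScalarTower.algebraMap_apply]

end Loc

attribute [local instance] FractionRing.liftAlgebra

variable (p : Ideal R) [p.IsMaximal]
variable [IsDedekindDomain R] [IsDomain S] [Module.IsTorsionFree R S] [Module.Finite R S] [IsIntegrallyClosed S]

theorem norm_quotient_eq_of_isDedekindDomain (x : S) :
    Algebra.norm (R ⧸ p) (Ideal.Quotient.mk (Ideal.map (algebraMap R S) p) x) =
      Ideal.Quotient.mk p (Algebra.intNorm R S x) := by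
  let Rₚ := Localization.AtPrime p
  let Sₚ := Localization (Algebra.algebraMapSubmonoid S p.primeCompl)
  let : Algebra Rₚ Sₚ := localizationAlgebra p.primeCompl S
  have : IsScalarTower R Rₚ Sₚ := IsScalarTower.of_algebraMap_eq'
    (by rw [RingHom.algebraMap_toAlgebra, IsLocalization.map_comp, ← IsScalarTower.algebraMap_eq])
  have : IsLocalization (Submonoid.map (algebraMap R S) (Ideal.primeCompl p)) Sₚ :=
    inferInstanceAs (IsLocalization (Algebra.algebraMapSubmonoid S p.primeCompl) Sₚ)
  have e : Algebra.algebraMapSubmonoid S p.primeCompl ≤ S⁰ :=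
    Submonoid.map_le_of_le_comap _ <| p.primeCompl_le_nonZeroDivisors.trans
      (nonZeroDivisors_le_comap_nonZeroDivisors_of_injective _
        (FaithfulSMul.algebraMap_injective _ _))
  have : IsDomain Sₚ := IsLocalization.isDomain_of_le_nonZeroDivisors _ e
  have : IsTorsionFree Rₚ Sₚ := by
    rw [isTorsionFree_iff_algebraMap_injective, RingHom.injective_iff_ker_eq_bot,
      RingHom.ker_eq_bot_iff_eq_zero]
    simp
  have : Module.Finite Rₚ Sₚ := .of_isLocalization R S p.primeCompl
  have : IsIntegrallyClosed Sₚ := isIntegrallyClosed_of_isLocalization _ _ e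
  have : IsPrincipalIdealRing Rₚ := by
    by_cases hp : p = ⊥
    · infer_instance
    · have := (IsDedekindDomain.isDedekindDomainDvr R).2 p hp inferInstance
      infer_instance
  have : Module.Free Rₚ Sₚ := Module.free_of_finite_type_torsion_free'
  apply (equivQuotMaximalIdeal p Rₚ).injective
  have : FiniteDimensional (FractionRing R) (FractionRing S) := .of_isLocalization R S R⁰
  rw [norm_quotient_eq_norm_localization_quotient S p Rₚ Sₚ, IsScalarTower.algebraMap_eq S Sₚ,
    RingHom.comp_apply, Ideal.Quotient.algebraMap_eq, norm_quotient_mk,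
    RingEquiv.apply_symm_apply, ← Algebra.intNorm_eq_norm,
    ← Algebra.intNorm_eq_of_isLocalization (A := R) (B := S) p.primeCompl (Aₘ := Rₚ) (Bₘ := Sₚ) x,
    ← Ideal.Quotient.algebraMap_eq, ← IsScalarTower.algebraMap_apply]
  simp only [equivQuotMaximalIdeal, RingHom.quotientKerEquivOfSurjective, RingEquiv.coe_trans,
    Function.comp_apply, Ideal.quotEquivOfEq_mk, RingHom.quotientKerEquivOfRightInverse.apply,
    RingHom.kerLift_mk]

/-- Locally at `p`, the norm near one is one plus the trace, up to a square. -/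
theorem exists_intNorm_one_add (t : R) (y : S) :
    ∃ s ∉ p, ∃ q : R, s * (Algebra.intNorm R S (1 + algebraMap R S t * y) - 1 - t * Algebra.intTrace R S y) =
      t ^ 2 * q := by
  let Rₚ := Localization.AtPrime p
  let Sₚ := Localization (Algebra.algebraMapSubmonoid S p.primeCompl)
  let : Algebra Rₚ Sₚ := localizationAlgebra p.primeCompl S
  have : IsScalarTower R Rₚ Sₚ := IsScalarTower.of_algebraMap_eq'
    (by rw [RingHom.algebraMap_toAlgebra, IsLocalization.map_comp, ← IsScalarTower.algebraMap_eq])
  have : IsLocalization (Submonoid.map (algebraMap R S) (Ideal.primeCompl p)) Sₚ :=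
    inferInstanceAs (IsLocalization (Algebra.algebraMapSubmonoid S p.primeCompl) Sₚ)
  have e : Algebra.algebraMapSubmonoid S p.primeCompl ≤ S⁰ :=
    Submonoid.map_le_of_le_comap _ <| p.primeCompl_le_nonZeroDivisors.trans
      (nonZeroDivisors_le_comap_nonZeroDivisors_of_injective _
        (FaithfulSMul.algebraMap_injective _ _))
  have : IsDomain Sₚ := IsLocalization.isDomain_of_le_nonZeroDivisors _ e
  have : IsTorsionFree Rₚ Sₚ := by
    rw [isTorsionFree_iff_algebraMap_injective, RingHom.injective_iff_ker_eq_bot,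
      RingHom.ker_eq_bot_iff_eq_zero]
    simp
  have : Module.Finite Rₚ Sₚ := .of_isLocalization R S p.primeCompl
  have : IsIntegrallyClosed Sₚ := isIntegrallyClosed_of_isLocalization _ _ e
  have : IsPrincipalIdealRing Rₚ := by
    by_cases hp : p = ⊥
    · infer_instance
    · have := (IsDedekindDomain.isDedekindDomainDvr R).2 p hp inferInstance
      infer_instance
  have : Module.Free Rₚ Sₚ := Module.free_of_finite_type_torsion_free'
  have : FiniteDimensional (FractionRing R) (FractionRing S) := .of_isLocalization R S R⁰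
  obtain ⟨q, hq⟩ := exists_norm_one_add (algebraMap R Rₚ t) (algebraMap S Sₚ y)
  have h1 : algebraMap R Rₚ (Algebra.intNorm R S (1 + algebraMap R S t * y)) =
      1 + algebraMap R Rₚ t * algebraMap R Rₚ (Algebra.intTrace R S y) + algebraMap R Rₚ t ^ 2 * q := by
    rw [Algebra.intNorm_eq_of_isLocalization (A := R) (B := S) p.primeCompl (Aₘ := Rₚ) (Bₘ := Sₚ),
      Algebra.intTrace_eq_of_isLocalization R S p.primeCompl (Aₘ := Rₚ) (Bₘ := Sₚ),
      Algebra.intNorm_eq_norm, Algebra.intTrace_eq_trace, ← hq, map_add, map_one, map_mul,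
      ← IsScalarTower.algebraMap_apply R S Sₚ, ← IsScalarTower.algebraMap_apply R Rₚ Sₚ]
  obtain ⟨⟨q₀, s⟩, hqs⟩ := IsLocalization.surj p.primeCompl q
  refine ⟨s, s.2, q₀, IsLocalization.injective Rₚ p.primeCompl_le_nonZeroDivisors ?_⟩
  simp only [map_mul, map_sub, map_one, map_pow]
  rw [h1, ← hqs]
  ring

end Groth.UnramNorm
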