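import Mathlib

/-!
Norm and trace of finite reduced algebras over finite fields.
-/

namespace Groth.UnramNorm

universe u v

variable {F : Type u} [Field F] {S : Type v} [CommRing S] [Algebra F S] [Module.Finite F S]

/-- If `x - 1` kills an ideal, the norm of `x` is the norm of its class. -/
theorem norm_eq_norm_quotient (m : Ideal S) (x : S) (hx : ∀ k ∈ m, (x - 1) * k = 0) :
    Algebra.norm F x = Algebra.norm F (Ideal.Quotient.mk m x) := by
  have hW : (m.restrictScalars F) ≤ (m.restrictScalars F).comap (LinearMap.mul F S x) := fun k hk => m.mul_mem_left x hk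
  have h := LinearMap.det_eq_det_mul_det (m.restrictScalars F) (LinearMap.mul F S x) hW
  have hid : (LinearMap.mul F S x).restrict hW = LinearMap.id := by
    refine LinearMap.ext fun k => Subtype.ext ?_
    show x * (k : S) = k
    rw [← sub_eq_zero, ← hx k k.2]; ring
  rw [hid, LinearMap.det_id, one_mul] at h
  rw [Algebra.norm_apply, Algebra.norm_apply]
  refine h.trans ?_
  let e : (S ⧸ m.restrictScalars F) ≃ₗ[F] S ⧸ m := Submodule.Quotient.restrictScalarsEquiv F m
  rw [← LinearMap.det_conj _ e]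
  congr 1
  refine LinearMap.ext fun y => ?_
  obtain ⟨y, rfl⟩ := Ideal.Quotient.mk_surjective y
  rfl

/-- If `y` kills an ideal, its trace is the trace of its class. -/
theorem trace_eq_trace_quotient (m : Ideal S) (y : S) (hy : ∀ k ∈ m, y * k = 0) :
    Algebra.trace F S y = Algebra.trace F (S ⧸ m) (Ideal.Quotient.mk m y) := by
  let π : S →ₗ[F] S ⧸ m := (Ideal.Quotient.mkₐ F m).toLinearMap
  let g : (S ⧸ m) →ₗ[F] S := (Submodule.liftQ (m.restrictScalars F) (LinearMap.mul F S y) fun k hk => hy k hk) ∘ₗ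
    (Submodule.Quotient.restrictScalarsEquiv F m).symm.toLinearMap
  have h1 : LinearMap.mul F S y = g ∘ₗ π := LinearMap.ext fun s => rfl
  have h2 : LinearMap.mul F (S ⧸ m) (Ideal.Quotient.mk m y) = π ∘ₗ g := by
    refine LinearMap.ext fun q => ?_
    obtain ⟨s, rfl⟩ := Ideal.Quotient.mk_surjective q
    show _ = Ideal.Quotient.mk m (y * s)
    exact (map_mul _ _ _).symm
  rw [Algebra.trace_apply, Algebra.trace_apply]
  show LinearMap.trace F S (LinearMap.mul F S y) = LinearMap.trace F _ (LinearMap.mul F (S ⧸ m) (Ideal.Quotient.mk m y))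
  rw [h1, h2, LinearMap.trace_comp_comm']

variable [IsReduced S] [Nontrivial S]

include F in
/-- A maximal ideal and an element congruent to `a` there and to `b` at all other maximal ideals. -/
theorem exists_split : ∃ m : Ideal S, m.IsMaximal ∧
    ∀ a : S ⧸ m, ∀ b : S, ∃ x : S, Ideal.Quotient.mk m x = a ∧ ∀ k ∈ m, (x - b) * k = 0 := by
  classical
  haveI : IsArtinianRing S := IsArtinianRing.of_finite F S
  obtain ⟨m, hm⟩ := Ideal.exists_maximal S
  refine ⟨m, hm, fun a b => ?_⟩
  obtain ⟨a, rfl⟩ := Ideal.Quotient.mk_surjective a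
  haveI := Fintype.ofFinite (MaximalSpectrum S)
  let f : MaximalSpectrum S → Ideal S := fun I => I.asIdeal
  have hf : Pairwise fun i j => IsCoprime (f i) (f j) := fun I J hIJ =>
    Ideal.isCoprime_iff_sup_eq.2 (I.2.coprime_of_ne J.2 fun h => hIJ (MaximalSpectrum.ext h))
  obtain ⟨x, hx⟩ := Ideal.exists_forall_sub_mem_ideal hf (fun I => if I.asIdeal = m then a else b)
  refine ⟨x, ?_, fun k hk => ?_⟩
  · have := hx ⟨m, hm⟩
    rw [if_pos rfl] at this
    exact Ideal.Quotient.eq.2 this
  · refine (nilradical_eq_zero S).le (?_ : (x - b) * k ∈ nilradical S)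
    rw [nilradical_eq_sInf, Ideal.mem_sInf]
    intro P hP
    haveI : P.IsPrime := hP
    haveI : P.IsMaximal := IsArtinianRing.isMaximal_of_isPrime P
    by_cases h : P = m
    · exact P.mul_mem_left _ (h ▸ hk)
    · have := hx ⟨P, inferInstance⟩
      rw [if_neg h] at this
      exact P.mul_mem_right _ this

variable [Finite F]

theorem exists_norm_eq {c : F} (hc : c ≠ 0) : ∃ x : S, Algebra.norm F x = c := by
  obtain ⟨m, hm, h⟩ := exists_split (F := F) (S := S)
  letI := Ideal.Quotient.field m
  haveI : Finite (S ⧸ m) := Module.finite_of_finite F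
  obtain ⟨a, ha⟩ := FiniteField.unitsMap_norm_surjective F (S ⧸ m) (Units.mk0 c hc)
  obtain ⟨x, hxa, hx⟩ := h (a : S ⧸ m) 1
  refine ⟨x, ?_⟩
  rw [norm_eq_norm_quotient m x hx, hxa]
  exact congrArg Units.val ha

theorem exists_trace_eq (c : F) : ∃ x : S, Algebra.trace F S x = c := by
  obtain ⟨m, hm, h⟩ := exists_split (F := F) (S := S)
  letI := Ideal.Quotient.field m
  haveI : Finite (S ⧸ m) := Module.finite_of_finite F
  obtain ⟨a, ha⟩ := Algebra.trace_surjective F (S ⧸ m) c
  obtain ⟨x, hxa, hx⟩ := h a 0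
  refine ⟨x, ?_⟩
  rw [trace_eq_trace_quotient m x (fun k hk => by simpa using hx k hk), hxa, ha]

end Groth.UnramNorm
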