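import Mathlib
import Groth.Agent.UnramNorm.FiniteEtale
import Groth.Agent.UnramNorm.Quotient

/-!
Successive approximation of a unit by norms in an extension of Dedekind domains unramified at finitely
many primes.
-/

namespace Groth.UnramNorm

open scoped nonZeroDivisors

variable {A B : Type*} [CommRing A] [CommRing B] [Algebra A B] [IsDedekindDomain A] [IsDedekindDomain B]
  [Module.IsTorsionFree A B] [Module.Finite A B]

theorem isRadical_map {P : Ideal A} [P.IsMaximal] (hP : P ≠ ⊥)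
    (h : ∀ Q ∈ P.primesOver B, Q.ramificationIdx A = 1) : (P.map (algebraMap A B)).IsRadical := by
  classical
  rw [Ideal.map_algebraMap_eq_finsetProd_pow hP, ← IsDedekindDomain.inf_prime_pow_eq_prod]
  · rw [Finset.inf_eq_iInf]
    refine Ideal.isRadical_iInf _ fun Q => Ideal.isRadical_iInf _ fun hQ => ?_
    rw [Set.mem_toFinset] at hQ
    rw [h Q hQ, pow_one]
    exact hQ.1.isRadical
  · intro Q hQ
    rw [Set.mem_toFinset] at hQ
    exact Ideal.prime_of_isPrime (haveI := hQ.2; Ideal.ne_bot_of_liesOver_of_ne_bot hP Q) hQ.1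
  · exact fun i _ j _ hij => hij

theorem exists_norm_and_trace {P : Ideal A} [P.IsMaximal] (hP : P ≠ ⊥) [Finite (A ⧸ P)]
    (h : ∀ Q ∈ P.primesOver B, Q.ramificationIdx A = 1) {a : A} (ha : a ∉ P) :
    (∃ z : B, ∀ z' : B, z' - z ∈ P.map (algebraMap A B) → Algebra.intNorm A B z' - a ∈ P) ∧
      ∃ y : B, ∀ y' : B, y' - y ∈ P.map (algebraMap A B) → Algebra.intTrace A B y' - 1 ∈ P := by
  letI := Ideal.Quotient.field P
  haveI : IsReduced (B ⧸ P.map (algebraMap A B)) :=
    (Ideal.isRadical_iff_quotient_reduced _).1 (isRadical_map hP h)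
  haveI : Nontrivial (B ⧸ P.map (algebraMap A B)) := by
    obtain ⟨Q, hQ, hQP⟩ := Ideal.exists_ideal_over_maximal_of_isIntegral (S := B) P (by
      rw [(RingHom.injective_iff_ker_eq_bot _).1 (FaithfulSMul.algebraMap_injective A B)]
      exact bot_le)
    exact Ideal.Quotient.nontrivial_iff.2 fun htop => hQ.ne_top (top_le_iff.1 (htop ▸ Ideal.map_le_iff_le_comap.2 hQP.ge))
  haveI : Module.Finite (A ⧸ P) (B ⧸ P.map (algebraMap A B)) := Module.Finite.of_restrictScalars_finite A _ _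
  obtain ⟨z, hz⟩ := exists_norm_eq (S := B ⧸ P.map (algebraMap A B))
    (c := Ideal.Quotient.mk P a) (by rwa [Ne, Ideal.Quotient.eq_zero_iff_mem])
  obtain ⟨y, hy⟩ := exists_trace_eq (S := B ⧸ P.map (algebraMap A B)) (1 : A ⧸ P)
  obtain ⟨z, rfl⟩ := Ideal.Quotient.mk_surjective z
  obtain ⟨y, rfl⟩ := Ideal.Quotient.mk_surjective y
  refine ⟨⟨z, fun z' hz' => ?_⟩, ⟨y, fun y' hy' => ?_⟩⟩
  · rw [← Ideal.Quotient.eq, ← norm_quotient_eq_of_isDedekindDomain P z', Ideal.Quotient.eq.2 hz', hz]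
  · rw [← Ideal.Quotient.eq, map_one, ← Algebra.trace_quotient_eq_of_isDedekindDomain B P y', Ideal.Quotient.eq.2 hy', hy]

theorem exists_seq {ι : Type*} [Finite ι] (P : ι → Ideal A) (hmax : ∀ i, (P i).IsMaximal)
    (hne : ∀ i, P i ≠ ⊥) (hinj : Function.Injective P) (hfin : ∀ i, Finite (A ⧸ P i))
    (hur : ∀ i, ∀ Q ∈ (P i).primesOver B, Q.ramificationIdx A = 1) {a : A} (ha : ∀ i, a ∉ P i) :
    ∃ z : ℕ → B, (∀ n i, Algebra.intNorm A B (z n) - a ∈ P i ^ (n + 1)) ∧
      ∀ n, ∃ d : A, (∀ i, d ∈ P i ^ (n + 1)) ∧ ∃ w : B, z (n + 1) - z n = algebraMap A B d * w := by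
  haveI := Fintype.ofFinite ι
  have hco : Pairwise fun i j => IsCoprime (P i) (P j) := fun i j hij =>
    Ideal.isCoprime_iff_sup_eq.2 ((hmax i).coprime_of_ne (hmax j) (hinj.ne hij))
  have hcoB : Pairwise fun i j => IsCoprime ((P i).map (algebraMap A B)) ((P j).map (algebraMap A B)) :=
    fun i j hij => by
      show IsCoprime _ _
      rw [Ideal.isCoprime_iff_sup_eq, ← Ideal.map_sup, Ideal.isCoprime_iff_sup_eq.1 (hco hij), Ideal.map_top]
  have h0 : ∀ i, (∃ z : B, ∀ z' : B, z' - z ∈ (P i).map (algebraMap A B) → Algebra.intNorm A B z' - a ∈ P i) ∧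
      ∃ y : B, ∀ y' : B, y' - y ∈ (P i).map (algebraMap A B) → Algebra.intTrace A B y' - 1 ∈ P i :=
    fun i => haveI := hmax i; haveI := hfin i; exists_norm_and_trace (hne i) (hur i) (ha i)
  choose hz hy using h0
  choose zz hzz using hz
  choose yy hyy using hy
  obtain ⟨z₀, hz₀⟩ := Ideal.exists_forall_sub_mem_ideal hcoB zz
  obtain ⟨y, hy₀⟩ := Ideal.exists_forall_sub_mem_ideal hcoB yy
  have hy' : ∀ i, Algebra.intTrace A B y - 1 ∈ P i := fun i => hyy i y (hy₀ i)
  have step : ∀ n, ∀ z : B, (∀ i, Algebra.intNorm A B z - a ∈ P i ^ (n + 1)) →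
      ∃ z' : B, (∀ i, Algebra.intNorm A B z' - a ∈ P i ^ (n + 2)) ∧
        ∃ d : A, (∀ i, d ∈ P i ^ (n + 1)) ∧ ∃ w : B, z' - z = algebraMap A B d * w := by
    intro n z hz
    have hNz : ∀ i, Algebra.intNorm A B z ∉ P i := fun i h =>
      ha i (by simpa using (P i).sub_mem h (Ideal.pow_le_self (Nat.succ_ne_zero n) (hz i)))
    choose rr ii hii hrr using fun i => (hmax i).exists_inv (hNz i)
    obtain ⟨r, hr⟩ := Ideal.exists_forall_sub_mem_ideal hco rr
    have hd : ∀ i, (a - Algebra.intNorm A B z) * r ∈ P i ^ (n + 1) := fun i =>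
      Ideal.mul_mem_right _ _ (by simpa using (P i ^ (n + 1)).neg_mem (hz i))
    refine ⟨z * (1 + algebraMap A B ((a - Algebra.intNorm A B z) * r) * y), fun i => ?_,
      (a - Algebra.intNorm A B z) * r, hd, z * y, by ring⟩
    haveI := hmax i
    obtain ⟨s, hs, q, hq⟩ := exists_intNorm_one_add (P i) ((a - Algebra.intNorm A B z) * r) y
    have hE : Algebra.intNorm A B (1 + algebraMap A B ((a - Algebra.intNorm A B z) * r) * y) - 1 -
        (a - Algebra.intNorm A B z) * r * Algebra.intTrace A B y ∈ P i ^ (n + 2) := by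
      refine (Ideal.IsPrime.mul_mem_pow (P i) ?_).resolve_left hs
      rw [hq]
      refine Ideal.mul_mem_right _ _ ?_
      have h2 := Ideal.pow_mem_pow (hd i) 2
      rw [← pow_mul] at h2
      exact Ideal.pow_le_pow_right (by omega) h2
    have hone : 1 - Algebra.intNorm A B z * r * Algebra.intTrace A B y ∈ P i := by
      have e : 1 - Algebra.intNorm A B z * r * Algebra.intTrace A B y =
          ii i - Algebra.intNorm A B z * (r - rr i) -
            Algebra.intNorm A B z * r * (Algebra.intTrace A B y - 1) := by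
        linear_combination -(hrr i)
      rw [e]
      exact (P i).sub_mem ((P i).sub_mem (hii i) ((P i).mul_mem_left _ (hr i))) ((P i).mul_mem_left _ (hy' i))
    have hprod : (Algebra.intNorm A B z - a) * (1 - Algebra.intNorm A B z * r * Algebra.intTrace A B y) ∈
        P i ^ (n + 2) := by
      rw [pow_succ _ (n + 1)]
      exact Ideal.mul_mem_mul (hz i) hone
    rw [map_mul]
    convert (P i ^ (n + 2)).add_mem hprod (Ideal.mul_mem_left _ (Algebra.intNorm A B z) hE) using 1
    ring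
  choose f hf hf' using step
  let zs : (n : ℕ) → {z : B // ∀ i, Algebra.intNorm A B z - a ∈ P i ^ (n + 1)} := fun n =>
    Nat.rec (motive := fun n => {z : B // ∀ i, Algebra.intNorm A B z - a ∈ P i ^ (n + 1)})
      ⟨z₀, fun i => by simpa using hzz i z₀ (hz₀ i)⟩ (fun m z => ⟨f m z.1 z.2, hf m z.1 z.2⟩) n
  exact ⟨fun n => (zs n).1, fun n i => (zs n).2 i, fun n => hf' n (zs n).1 (zs n).2⟩

end Groth.UnramNorm
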