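import Mathlib

/-!
`R ⊗ L` as a free algebra over `R ⊗ K`: basis, norms, continuity of the norm.
-/

namespace Groth.UnramNorm

open scoped TensorProduct

variable (k K L R : Type*) [Field k] [Field K] [Field L] [Algebra k K] [Algebra K L] [Algebra k L]
  [IsScalarTower k K L] [CommRing R] [Algebra k R]

/-- The structure map `R ⊗ K → R ⊗ L`. -/
@[reducible] noncomputable def tAlg : Algebra (R ⊗[k] K) (R ⊗[k] L) :=
  (Algebra.TensorProduct.map (AlgHom.id k R) (IsScalarTower.toAlgHom k K L)).toRingHom.toAlgebra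

attribute [local instance] tAlg

theorem algebraMap_tmul (r : R) (x : K) :
    algebraMap (R ⊗[k] K) (R ⊗[k] L) (r ⊗ₜ[k] x) = r ⊗ₜ[k] algebraMap K L x := rfl

theorem isScalarTower : IsScalarTower R (R ⊗[k] K) (R ⊗[k] L) :=
  IsScalarTower.of_algebraMap_eq fun r => by
    show r ⊗ₜ[k] (1 : L) = algebraMap (R ⊗[k] K) (R ⊗[k] L) (r ⊗ₜ[k] (1 : K))
    rw [algebraMap_tmul, map_one]

variable {k K L R}
variable {ι : Type*} [Fintype ι] [DecidableEq ι] (b : Module.Basis ι K L)

/-- Coordinates. -/
noncomputable def coord : R ⊗[k] L →ₗ[k] (ι → R ⊗[k] K) :=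
  LinearMap.pi fun i => ((b.coord i).restrictScalars k).lTensor R

/-- Combination of the basis vectors. -/
noncomputable def combine (f : ι → R ⊗[k] K) : R ⊗[k] L :=
  ∑ i, algebraMap (R ⊗[k] K) (R ⊗[k] L) (f i) * ((1 : R) ⊗ₜ[k] b i)

omit [DecidableEq ι] in
theorem combine_coord (x : R ⊗[k] L) : combine b (coord b x) = x := by
  induction x using TensorProduct.induction_on with
  | zero => simp [combine, coord]
  | add x y hx hy =>
    conv_rhs => rw [← hx, ← hy]
    simp only [combine, map_add, Pi.add_apply, add_mul, Finset.sum_add_distrib]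
  | tmul r l =>
    show ∑ i, algebraMap (R ⊗[k] K) (R ⊗[k] L) (r ⊗ₜ[k] b.coord i l) * ((1 : R) ⊗ₜ[k] b i) = _
    simp only [algebraMap_tmul, Algebra.TensorProduct.tmul_mul_tmul, mul_one, ← Algebra.smul_def,
      Module.Basis.coord_apply, ← TensorProduct.tmul_sum, b.sum_repr]

omit [Fintype ι] in
theorem coord_mul (f : R ⊗[k] K) (j : ι) :
    coord b (algebraMap (R ⊗[k] K) (R ⊗[k] L) f * ((1 : R) ⊗ₜ[k] b j)) = Pi.single j f := by
  induction f using TensorProduct.induction_on with
  | zero => simp
  | add x y hx hy => rw [map_add, add_mul, map_add, hx, hy, Pi.single_add]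
  | tmul r x =>
    funext i
    show ((b.coord i).restrictScalars k).lTensor R _ = _
    simp only [algebraMap_tmul, Algebra.TensorProduct.tmul_mul_tmul,
      mul_one, ← Algebra.smul_def, LinearMap.lTensor_tmul, LinearMap.coe_restrictScalars,
      map_smul, Module.Basis.coord_apply, Module.Basis.repr_self, Finsupp.single_apply, Pi.single_apply]
    by_cases h : j = i
    · subst h; simp
    · simp [h, Ne.symm h]

/-- The base-changed basis. -/
noncomputable def basisT : Module.Basis ι (R ⊗[k] K) (R ⊗[k] L) :=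
  Module.Basis.ofEquivFun
    { toFun := coord b
      map_add' := map_add _
      map_smul' := fun f x => by
        conv_lhs => rw [← combine_coord b x]
        rw [combine, Algebra.smul_def, Finset.mul_sum, map_sum]
        simp only [← mul_assoc, ← map_mul, coord_mul]
        rw [Finset.univ_sum_single]
        rfl
      invFun := combine b
      left_inv := combine_coord b
      right_inv := fun f => by rw [combine, map_sum]; simp only [coord_mul, Finset.univ_sum_single] }

theorem basisT_equivFun (x : R ⊗[k] L) : (basisT (k := k) (R := R) b).equivFun x = coord b x := by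
  rw [basisT, Module.Basis.equivFun_ofEquivFun]
  rfl

theorem basisT_apply (j : ι) : basisT (k := k) (R := R) b j = (1 : R) ⊗ₜ[k] b j := by
  apply (basisT (k := k) (R := R) b).equivFun.injective
  rw [basisT_equivFun, basisT_equivFun, ← one_mul ((1 : R) ⊗ₜ[k] b j),
    ← map_one (algebraMap (R ⊗[k] K) (R ⊗[k] L)), coord_mul, ← basisT_equivFun]
  funext i
  rw [Module.Basis.equivFun_self]
  simp [Pi.single_apply, eq_comm]

theorem leftMulMatrix_one_tmul (c : L) :
    Algebra.leftMulMatrix (basisT (k := k) (R := R) b) ((1 : R) ⊗ₜ[k] c) =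
      (Algebra.leftMulMatrix b c).map fun z => (1 : R) ⊗ₜ[k] z := by
  ext i j
  rw [Algebra.leftMulMatrix_eq_repr_mul, Matrix.map_apply, Algebra.leftMulMatrix_eq_repr_mul, basisT_apply,
    Algebra.TensorProduct.tmul_mul_tmul, one_mul, ← Module.Basis.equivFun_apply, basisT_equivFun]
  rfl

omit [Fintype ι] [DecidableEq ι] b in
variable (k K L R) in
theorem norm_one_tmul [FiniteDimensional K L] (c : L) :
    Algebra.norm (R ⊗[k] K) ((1 : R) ⊗ₜ[k] c) = (1 : R) ⊗ₜ[k] Algebra.norm K c := by
  classical
  let b := Module.finBasis K L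
  rw [Algebra.norm_eq_matrix_det (basisT (k := k) (R := R) b), leftMulMatrix_one_tmul,
    Algebra.norm_eq_matrix_det b]
  exact (RingHom.map_det (Algebra.TensorProduct.includeRight : K →ₐ[k] R ⊗[k] K).toRingHom _).symm

omit [Fintype ι] [DecidableEq ι] b in
variable (k K L R) in
theorem isUnit_of_isUnit_norm [FiniteDimensional K L] {x : R ⊗[k] L}
    (h : IsUnit (Algebra.norm (R ⊗[k] K) x)) : IsUnit x := by
  classical
  haveI : Module.Free (R ⊗[k] K) (R ⊗[k] L) := Module.Free.of_basis (basisT (Module.finBasis K L))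
  haveI : Module.Finite (R ⊗[k] K) (R ⊗[k] L) := Module.Finite.of_basis (basisT (Module.finBasis K L))
  rw [Algebra.norm_apply, ← LinearMap.isUnit_iff_isUnit_det, Module.End.isUnit_iff] at h
  obtain ⟨y, hy⟩ := h.2 1
  exact IsUnit.of_mul_eq_one y hy

omit [Fintype ι] [DecidableEq ι] b in
variable (k K L R) in
/-- The norm is continuous for the module topologies. -/
theorem continuous_norm [FiniteDimensional K L] [FiniteDimensional k K] [TopologicalSpace R] [IsTopologicalRing R]
    [TopologicalSpace (R ⊗[k] K)] [IsModuleTopology R (R ⊗[k] K)]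
    [TopologicalSpace (R ⊗[k] L)] [IsModuleTopology R (R ⊗[k] L)] :
    Continuous (Algebra.norm (R ⊗[k] K) : R ⊗[k] L → R ⊗[k] K) := by
  classical
  haveI := isScalarTower k K L R
  haveI : IsTopologicalRing (R ⊗[k] K) := IsModuleTopology.isTopologicalRing R _
  haveI : ContinuousSMul R (R ⊗[k] K) := IsModuleTopology.toContinuousSMul R _
  let b := Module.finBasis K L
  let B := basisT (k := k) (R := R) b
  have h : (Algebra.norm (R ⊗[k] K) : R ⊗[k] L → R ⊗[k] K) = fun x => (Algebra.leftMulMatrix B x).det :=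
    funext fun x => Algebra.norm_eq_matrix_det B x
  rw [h]
  refine Continuous.matrix_det (continuous_matrix fun i j => ?_)
  let φ : R ⊗[k] L →ₗ[R] R ⊗[k] K :=
    ((B.coord i) ∘ₗ (LinearMap.mul (R ⊗[k] K) (R ⊗[k] L)).flip (B j)).restrictScalars R
  have hφ : (fun x => Algebra.leftMulMatrix B x i j) = φ := by
    funext x
    rw [Algebra.leftMulMatrix_eq_repr_mul]
    rfl
  rw [hφ]
  exact IsModuleTopology.continuous_of_linearMap φ

end Groth.UnramNorm
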