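import Mathlib
import Groth.Agent.UnramNorm.Approx
import Groth.Agent.UnramNorm.TensorBasis
import Groth.Agent.StrongApx.Basic

/-!
At a finite place unramified in `L / K`, units of `K` are norms from `k_v ⊗ L`.
-/

namespace Groth.UnramNorm

open scoped TensorProduct Topology
open NumberField IsDedekindDomain Filter WithZero

attribute [local instance] tAlg

universe u

variable {k : Type u} [Field k] [NumberField k] (v : HeightOneSpectrum (𝓞 k))

theorem tendsto_coe_zero {m : ℕ → ℕ} (hm : Tendsto m atTop atTop) {c : ℕ → 𝓞 k}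
    (hc : ∀ n, c n ∈ v.asIdeal ^ m n) :
    Tendsto (fun n => algebraMap k (v.adicCompletion k) (c n : k)) atTop (𝓝 0) := by
  intro s hs
  rw [Valued.mem_nhds_zero] at hs
  obtain ⟨γ, hγ⟩ := hs
  obtain ⟨e, he⟩ := StrongApx.exists_exp_neg_lt
    ((map_ne_zero (MonoidWithZeroHom.ValueGroup₀.embedding)).2 (Units.ne_zero γ))
  rw [mem_map, mem_atTop_sets]
  obtain ⟨N, hN⟩ := (tendsto_atTop_atTop.1 hm) e
  refine ⟨N, fun n hn => hγ ?_⟩
  rw [Set.mem_ofPred_eq, Valuation.restrict_lt_iff_lt_embedding]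
  refine lt_of_le_of_lt ?_ he
  refine (HeightOneSpectrum.valuedAdicCompletion_eq_valuation' v (c n : k)).trans_le ?_
  rw [HeightOneSpectrum.valuation_of_algebraMap, HeightOneSpectrum.intValuation_le_pow_iff_mem]
  exact Ideal.pow_le_pow_right (hN n hn) (hc n)

section gens

variable {M : Type u} [Field M] [NumberField M] [Algebra k M]

theorem exists_coeff {l : ℕ} {g : Fin l → 𝓞 M} (hg : Submodule.span (𝓞 k) (Set.range g) = ⊤)
    {m : ℕ} {δ : 𝓞 M} (h : δ ∈ (v.asIdeal ^ m).map (algebraMap (𝓞 k) (𝓞 M))) :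
    ∃ c : Fin l → 𝓞 k, (∀ j, c j ∈ v.asIdeal ^ m) ∧
      (1 : v.adicCompletion k) ⊗ₜ[k] (δ : M) =
        ∑ j, algebraMap k (v.adicCompletion k) (c j : k) ⊗ₜ[k] (g j : M) := by
  have h' : δ ∈ (v.asIdeal ^ m) • Submodule.span (𝓞 k) (Set.range g) := by
    rw [hg, Ideal.smul_top_eq_map]
    exact h
  obtain ⟨c, hc, hc'⟩ := (Submodule.mem_ideal_smul_span_iff_exists_sum _ g δ).1 h'
  refine ⟨c, hc, ?_⟩
  rw [← hc', Finsupp.sum_fintype c (fun i r => r • g i) (fun i => zero_smul _ _), RingOfIntegers.coe_eq_algebraMap, map_sum,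
    TensorProduct.tmul_sum]
  refine Finset.sum_congr rfl fun j _ => ?_
  rw [show algebraMap (𝓞 M) M (c j • g j) = (c j : k) • algebraMap (𝓞 M) M (g j) by
      rw [Algebra.smul_def, Algebra.smul_def, map_mul, ← IsScalarTower.algebraMap_apply,
        ← IsScalarTower.algebraMap_apply],
    TensorProduct.tmul_smul, TensorProduct.smul_tmul', ← Algebra.algebraMap_eq_smul_one]

end gens

variable {K L : Type u} [Field K] [NumberField K] [Field L] [NumberField L]
  [Algebra k K] [Algebra K L] [Algebra k L] [IsScalarTower k K L]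

variable (K L) in
/-- Integral elements of `K` prime to `v` are norms from `k_v ⊗ L`. -/
theorem exists_norm_eq_coe
    (hur : ∀ Q : Ideal (𝓞 L), Q.IsPrime → Q.LiesOver v.asIdeal → Q.ramificationIdx (𝓞 K) = 1)
    (a : 𝓞 K) (ha : ∀ W : HeightOneSpectrum (𝓞 K), W.asIdeal.LiesOver v.asIdeal → a ∉ W.asIdeal) :
    ∃ x : v.adicCompletion k ⊗[k] L, IsUnit x ∧
      Algebra.norm (v.adicCompletion k ⊗[k] K) x = (1 : v.adicCompletion k) ⊗ₜ[k] (a : K) := by
  classical
  haveI : FiniteDimensional k K := Module.Finite.of_restrictScalars_finite ℚ k K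
  haveI : FiniteDimensional k L := Module.Finite.of_restrictScalars_finite ℚ k L
  haveI : FiniteDimensional K L := Module.Finite.of_restrictScalars_finite ℚ K L
  haveI : v.asIdeal.IsMaximal := v.isMaximal
  let ι := {W : HeightOneSpectrum (𝓞 K) // W.asIdeal.LiesOver v.asIdeal}
  haveI : Finite ι := by
    haveI := (IsDedekindDomain.primesOver_finite (p := v.asIdeal) (B := 𝓞 K)).to_subtype
    exact Finite.of_injective (fun W : ι => (⟨W.1.asIdeal, ⟨W.1.isPrime, W.2⟩⟩ : v.asIdeal.primesOver (𝓞 K)))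
      fun W W' h => Subtype.ext (HeightOneSpectrum.ext (congrArg Subtype.val h))
  haveI := Fintype.ofFinite ι
  let P : ι → Ideal (𝓞 K) := fun W => W.1.asIdeal
  have hinj : Function.Injective P := fun W W' h => Subtype.ext (HeightOneSpectrum.ext h)
  obtain ⟨z, hz, hzd⟩ := exists_seq (B := 𝓞 L) P (fun W => W.1.isMaximal) (fun W => W.1.ne_bot) hinj
    (fun W => Ideal.finiteQuotientOfFreeOfNeBot _ W.1.ne_bot)
    (fun W Q hQ => hur Q hQ.1 (haveI := hQ.2; haveI := W.2; Ideal.LiesOver.trans Q W.1.asIdeal v.asIdeal))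
    (fun W => ha W.1 W.2)
  obtain ⟨n₀, hn₀⟩ := (v.asIdeal.map (algebraMap (𝓞 k) (𝓞 K))).exists_radical_pow_le_of_fg
    (IsNoetherian.noetherian _)
  have hsmall : ∀ (n : ℕ) (d : 𝓞 K), (∀ W, d ∈ P W ^ (n + 1)) →
      d ∈ (v.asIdeal ^ ((n + 1) / (n₀ + 1))).map (algebraMap (𝓞 k) (𝓞 K)) := by
    intro n d hd
    set m := (n + 1) / (n₀ + 1)
    have h1 : d ∈ (∏ W, P W) ^ ((n₀ + 1) * m) := by
      rw [← Finset.prod_pow, ← IsDedekindDomain.inf_prime_pow_eq_prod]
      · simp only [Submodule.mem_finsetInf]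
        exact fun W _ => Ideal.pow_le_pow_right (Nat.mul_div_le _ _) (hd W)
      · exact fun W _ => W.1.prime
      · exact fun W _ W' _ h => hinj.ne h
    have h2 : ∏ W, P W ≤ (v.asIdeal.map (algebraMap (𝓞 k) (𝓞 K))).radical := by
      rw [Ideal.radical_eq_sInf]
      refine le_sInf fun J hJ => ?_
      obtain ⟨hJ, hJp⟩ := hJ
      have hover : J.LiesOver v.asIdeal :=
        ⟨v.isMaximal.eq_of_le (Ideal.comap_ne_top _ hJp.ne_top) (Ideal.map_le_iff_le_comap.1 hJ)⟩
      have hJ0 : J ≠ ⊥ := Ideal.ne_bot_of_liesOver_of_ne_bot v.ne_bot J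
      let W : ι := ⟨⟨J, hJp, hJ0⟩, hover⟩
      refine Ideal.prod_le_inf.trans (Finset.inf_le (f := P) (Finset.mem_univ W))
    rw [Ideal.map_pow]
    refine Ideal.pow_right_mono ?_ m ((pow_mul (∏ W, P W) (n₀ + 1) m) ▸ h1)
    exact (Ideal.pow_right_mono h2 _).trans ((Ideal.pow_le_pow_right (Nat.le_succ _)).trans hn₀)
  have hm : Tendsto (fun n => (n + 1) / (n₀ + 1)) atTop atTop :=
    tendsto_atTop_atTop.2 fun b => ⟨b * (n₀ + 1), fun n hn => (Nat.le_div_iff_mul_le (Nat.succ_pos _)).2 (hn.trans (Nat.le_succ n))⟩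
  obtain ⟨l, g, hg⟩ := Module.Finite.exists_fin (R := 𝓞 k) (M := 𝓞 L)
  obtain ⟨l', g', hg'⟩ := Module.Finite.exists_fin (R := 𝓞 k) (M := 𝓞 K)
  have hinc : ∀ n, ∃ c : Fin l → 𝓞 k, (∀ j, c j ∈ v.asIdeal ^ ((n + 1) / (n₀ + 1))) ∧
      (1 : v.adicCompletion k) ⊗ₜ[k] ((z (n + 1) : L) - (z n : L)) =
        ∑ j, algebraMap k (v.adicCompletion k) (c j : k) ⊗ₜ[k] (g j : L) := fun n => by
    obtain ⟨d, hd, w, hw⟩ := hzd n
    rw [show ((z (n + 1) : L) - (z n : L)) = ((z (n + 1) - z n : 𝓞 L) : L) from (map_sub _ _ _).symm]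
    refine exists_coeff v hg ?_
    rw [hw, IsScalarTower.algebraMap_eq (𝓞 k) (𝓞 K) (𝓞 L), ← Ideal.map_map]
    exact Ideal.mul_mem_right _ _ (Ideal.mem_map_of_mem _ (hsmall n d hd))
  choose c hc hc' using hinc
  have hres : ∀ n, ∃ e : Fin l' → 𝓞 k, (∀ j, e j ∈ v.asIdeal ^ ((n + 1) / (n₀ + 1))) ∧
      (1 : v.adicCompletion k) ⊗ₜ[k] ((Algebra.intNorm (𝓞 K) (𝓞 L) (z n) - a : 𝓞 K) : K) =
        ∑ j, algebraMap k (v.adicCompletion k) (e j : k) ⊗ₜ[k] (g' j : K) :=
    fun n => exists_coeff v hg' (hsmall n _ (hz n))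
  choose e he he' using hres
  have hsum : ∀ j, Summable fun n => algebraMap k (v.adicCompletion k) (c n j : k) := fun j =>
    NonarchimedeanAddGroup.summable_of_tendsto_cofinite_zero
      (Nat.cofinite_eq_atTop ▸ tendsto_coe_zero v hm fun n => hc n j)
  let U := v.adicCompletion k ⊗[k] L
  let U' := v.adicCompletion k ⊗[k] K
  letI tU : TopologicalSpace U := moduleTopology (v.adicCompletion k) U
  haveI : IsModuleTopology (v.adicCompletion k) U := ⟨rfl⟩
  letI tU' : TopologicalSpace U' := moduleTopology (v.adicCompletion k) U'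
  haveI : IsModuleTopology (v.adicCompletion k) U' := ⟨rfl⟩
  haveI : ContinuousAdd U := IsModuleTopology.toContinuousAdd (v.adicCompletion k) U
  haveI : ContinuousAdd U' := IsModuleTopology.toContinuousAdd (v.adicCompletion k) U'
  haveI : ContinuousSMul (v.adicCompletion k) U := IsModuleTopology.toContinuousSMul _ _
  haveI : ContinuousSMul (v.adicCompletion k) U' := IsModuleTopology.toContinuousSMul _ _
  haveI : T2Space U' := by
    let b := Module.finBasis (v.adicCompletion k) U'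
    exact T2Space.of_injective_continuous b.equivFun.injective
      (IsModuleTopology.continuous_of_linearMap b.equivFun.toLinearMap)
  let x : U := (1 : v.adicCompletion k) ⊗ₜ[k] (z 0 : L) +
    ∑ j, (∑' n, algebraMap k (v.adicCompletion k) (c n j : k)) • ((1 : v.adicCompletion k) ⊗ₜ[k] (g j : L))
  have hpartial : ∀ N, (1 : v.adicCompletion k) ⊗ₜ[k] (z N : L) = (1 : v.adicCompletion k) ⊗ₜ[k] (z 0 : L) +
      ∑ j, (∑ n ∈ Finset.range N, algebraMap k (v.adicCompletion k) (c n j : k)) •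
        ((1 : v.adicCompletion k) ⊗ₜ[k] (g j : L)) := by
    intro N
    induction N with
    | zero => simp
    | succ N ih =>
      simp only [Finset.sum_range_succ, add_smul, Finset.sum_add_distrib, ← add_assoc, ← ih]
      rw [← sub_eq_iff_eq_add', ← TensorProduct.tmul_sub, hc' N]
      simp only [TensorProduct.smul_tmul', smul_eq_mul, mul_one]
  have hlim : Tendsto (fun N => (1 : v.adicCompletion k) ⊗ₜ[k] (z N : L)) atTop (𝓝 x) := by
    rw [show (fun N => (1 : v.adicCompletion k) ⊗ₜ[k] (z N : L)) = _ from funext hpartial]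
    exact tendsto_const_nhds.add (tendsto_finsetSum _ fun j _ => ((hsum j).hasSum.tendsto_sum_nat).smul tendsto_const_nhds)
  have hnz : ∀ N, Algebra.norm U' ((1 : v.adicCompletion k) ⊗ₜ[k] (z N : L) : U) =
      (1 : v.adicCompletion k) ⊗ₜ[k] (a : K) +
        ∑ j, algebraMap k (v.adicCompletion k) (e N j : k) • ((1 : v.adicCompletion k) ⊗ₜ[k] (g' j : K)) := by
    intro N
    rw [norm_one_tmul k K L (v.adicCompletion k) (z N : L)]
    rw [show Algebra.norm K (z N : L) = (Algebra.intNorm (𝓞 K) (𝓞 L) (z N) : K) from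
      (Algebra.algebraMap_intNorm (A := 𝓞 K) (B := 𝓞 L) (K := K) (L := L) (z N)).symm]
    rw [← sub_eq_iff_eq_add', ← TensorProduct.tmul_sub, ← map_sub, he' N]
    simp only [TensorProduct.smul_tmul', smul_eq_mul, mul_one]
  have hlim' : Tendsto (fun N => Algebra.norm U' ((1 : v.adicCompletion k) ⊗ₜ[k] (z N : L) : U)) atTop
      (𝓝 ((1 : v.adicCompletion k) ⊗ₜ[k] (a : K))) := by
    simp only [hnz]
    have : Tendsto (fun N => ∑ j, algebraMap k (v.adicCompletion k) (e N j : k) •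
        ((1 : v.adicCompletion k) ⊗ₜ[k] (g' j : K))) atTop (𝓝 (∑ j : Fin l', (0 : v.adicCompletion k) •
        ((1 : v.adicCompletion k) ⊗ₜ[k] (g' j : K)))) :=
      tendsto_finsetSum _ fun j _ => (tendsto_coe_zero v hm fun n => he n j).smul tendsto_const_nhds
    simpa using (tendsto_const_nhds (x := ((1 : v.adicCompletion k) ⊗ₜ[k] (a : K)))).add this
  have hN : Algebra.norm U' x = (1 : v.adicCompletion k) ⊗ₜ[k] (a : K) :=
    tendsto_nhds_unique (((continuous_norm k K L (v.adicCompletion k)).tendsto x).comp hlim) hlim'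
  refine ⟨x, isUnit_of_isUnit_norm k K L _ ?_, hN⟩
  rw [hN]
  refine (Ne.isUnit ?_).map (Algebra.TensorProduct.includeRight : K →ₐ[k] U')
  simp only [ne_eq, FaithfulSMul.algebraMap_eq_zero_iff]
  rintro rfl
  obtain ⟨Q, hQ⟩ := Ideal.nonempty_primesOver (S := 𝓞 K) (P := v.asIdeal)
  exact ha ⟨Q, hQ.1, haveI := hQ.2; Ideal.ne_bot_of_liesOver_of_ne_bot v.ne_bot Q⟩ hQ.2 (zero_mem _)

theorem exists_mul_eq_integer (c : K)
    (hc : ∀ W : HeightOneSpectrum (𝓞 K), W.asIdeal.LiesOver v.asIdeal → W.valuation K c ≤ 1) :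
    ∃ s : 𝓞 k, s ∉ v.asIdeal ∧ ∃ a : 𝓞 K, c * algebraMap (𝓞 k) K s = (a : K) := by
  let D : Ideal (𝓞 K) :=
    { carrier := {t | ∃ a : 𝓞 K, c * (t : K) = (a : K)}
      add_mem' := by
        rintro t t' ⟨a, ha⟩ ⟨b, hb⟩
        exact ⟨a + b, by push_cast; rw [mul_add, ha, hb]⟩
      zero_mem' := ⟨0, by simp⟩
      smul_mem' := by
        rintro r t ⟨a, ha⟩
        exact ⟨r * a, by rw [smul_eq_mul]; push_cast; rw [mul_left_comm, ha]⟩ }
  by_contra hcon
  push Not at hcon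
  have hle : D.comap (algebraMap (𝓞 k) (𝓞 K)) ≤ v.asIdeal := fun s hs => by
    by_contra hs'
    obtain ⟨a, ha⟩ : ∃ a : 𝓞 K, c * ((algebraMap (𝓞 k) (𝓞 K) s : 𝓞 K) : K) = (a : K) := hs
    rw [RingOfIntegers.coe_eq_algebraMap, ← IsScalarTower.algebraMap_apply] at ha
    exact hcon s hs' a ha
  haveI := v.isPrime
  obtain ⟨Q, hQD, hQp, hQ⟩ := Ideal.exists_ideal_over_prime_of_isIntegral v.asIdeal D hle
  haveI : Q.LiesOver v.asIdeal := ⟨hQ.symm⟩
  let W : HeightOneSpectrum (𝓞 K) := ⟨Q, hQp, Ideal.ne_bot_of_liesOver_of_ne_bot v.ne_bot Q⟩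
  obtain ⟨n, d, hnd⟩ := HeightOneSpectrum.exists_primeCompl_mul_eq_of_integer W c (hc W ⟨hQ.symm⟩)
  exact d.2 (hQD ⟨n, hnd⟩)

variable (K L) in
/-- At a place unramified in `L / K`, elements of `K` which are units over `v` are norms of units. -/
theorem exists_norm_eq_of_valuation_eq_one
    (hur : ∀ Q : Ideal (𝓞 L), Q.IsPrime → Q.LiesOver v.asIdeal → Q.ramificationIdx (𝓞 K) = 1)
    (c : K) (hc : ∀ W : HeightOneSpectrum (𝓞 K), W.asIdeal.LiesOver v.asIdeal → W.valuation K c = 1) :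
    ∃ x : v.adicCompletion k ⊗[k] L, IsUnit x ∧
      Algebra.norm (v.adicCompletion k ⊗[k] K) x = (1 : v.adicCompletion k) ⊗ₜ[k] c := by
  obtain ⟨s, hs, a, ha⟩ := exists_mul_eq_integer v c fun W hW => (hc W hW).le
  have hsW : ∀ W : HeightOneSpectrum (𝓞 K), W.asIdeal.LiesOver v.asIdeal →
      algebraMap (𝓞 k) (𝓞 K) s ∉ W.asIdeal := fun W hW h =>
    hs (by rw [hW.over]; exact h)
  have haW : ∀ W : HeightOneSpectrum (𝓞 K), W.asIdeal.LiesOver v.asIdeal → a ∉ W.asIdeal := fun W hW h => by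
    have h1 := (HeightOneSpectrum.valuation_lt_one_iff_mem (K := K) W a).2 h
    simp only [RingOfIntegers.coe_eq_algebraMap] at ha h1
    rw [← ha, map_mul, hc W hW, one_mul, IsScalarTower.algebraMap_apply (𝓞 k) (𝓞 K) K,
      HeightOneSpectrum.valuation_lt_one_iff_mem] at h1
    exact hsW W hW h1
  obtain ⟨xa, hxa, hNa⟩ := exists_norm_eq_coe v K L hur a haW
  obtain ⟨xs, hxs, hNs⟩ := exists_norm_eq_coe v K L hur (algebraMap (𝓞 k) (𝓞 K) s) hsW
  refine ⟨xa * ↑hxs.unit⁻¹, hxa.mul (Units.isUnit _), ?_⟩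
  have h1 : Algebra.norm (v.adicCompletion k ⊗[k] K) (xa * ↑hxs.unit⁻¹) *
      Algebra.norm (v.adicCompletion k ⊗[k] K) xs = Algebra.norm (v.adicCompletion k ⊗[k] K) xa := by
    rw [← map_mul, mul_assoc, IsUnit.val_inv_mul, mul_one]
  refine (IsUnit.mul_left_inj (a := Algebra.norm (v.adicCompletion k ⊗[k] K) xs) (hxs.map _)).1 ?_
  rw [h1, hNa, hNs, Algebra.TensorProduct.tmul_mul_tmul, one_mul, RingOfIntegers.coe_eq_algebraMap, RingOfIntegers.coe_eq_algebraMap, ← IsScalarTower.algebraMap_apply,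
    ← RingOfIntegers.coe_eq_algebraMap a, ← ha]

end Groth.UnramNorm
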