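import Mathlib
import Groth.Agent.UnramNorm.Local

/-!
Valuations over a place, and the data of locally split values outside the bad set.
-/

namespace Groth.UnramNorm

open NumberField IsDedekindDomain WithZero
open scoped TensorProduct

universe u

variable {k : Type u} [Field k] [NumberField k] {K : Type u} [Field K] [NumberField K] [Algebra k K]
  {v : HeightOneSpectrum (𝓞 k)} {W : HeightOneSpectrum (𝓞 K)}

theorem exists_place (W : HeightOneSpectrum (𝓞 K)) :
    ∃ v : HeightOneSpectrum (𝓞 k), W.asIdeal.LiesOver v.asIdeal :=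
  ⟨⟨W.asIdeal.under (𝓞 k), W.isPrime.comap _, fun h => W.ne_bot (Ideal.eq_bot_of_comap_eq_bot h)⟩, ⟨rfl⟩⟩

theorem place_unique {v' : HeightOneSpectrum (𝓞 k)} {Q : Type*} [CommRing Q] [Algebra (𝓞 k) Q] {P : Ideal Q}
    (h : P.LiesOver v.asIdeal) (h' : P.LiesOver v'.asIdeal) : v = v' :=
  HeightOneSpectrum.ext (h.over.trans h'.over.symm)

theorem valuation_eq_pow (h : W.asIdeal.LiesOver v.asIdeal) :
    ∃ e : ℕ, e ≠ 0 ∧ ∀ x : k, W.valuation K (algebraMap k K x) = v.valuation k x ^ e :=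
  haveI := h
  ⟨_, Ideal.IsDedekindDomain.ramificationIdx'_ne_zero_of_liesOver W.asIdeal v.ne_bot,
    fun x => (HeightOneSpectrum.valuation_liesOver K v W x).symm⟩

theorem valuation_le_one (h : W.asIdeal.LiesOver v.asIdeal) {x : k} (hx : v.valuation k x ≤ 1) :
    W.valuation K (algebraMap k K x) ≤ 1 := by
  obtain ⟨e, -, he⟩ := valuation_eq_pow h
  exact (he x).trans_le (pow_le_one₀ zero_le hx)

theorem valuation_eq_one (h : W.asIdeal.LiesOver v.asIdeal) {x : k} (hx : v.valuation k x = 1) :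
    W.valuation K (algebraMap k K x) = 1 := by
  obtain ⟨e, -, he⟩ := valuation_eq_pow h
  rw [he, hx, one_pow]

theorem valuation_le_exp (h : W.asIdeal.LiesOver v.asIdeal) {x : k} {n : ℕ} (hx : v.valuation k x ≤ exp (-(n : ℤ))) :
    W.valuation K (algebraMap k K x) ≤ exp (-(n : ℤ)) := by
  obtain ⟨e, he0, he⟩ := valuation_eq_pow h
  refine (he x).trans_le ((pow_le_of_le_one zero_le ?_ he0).trans hx)
  exact hx.trans (exp_le_exp.2 (by omega) |>.trans_eq exp_zero)

theorem unramified_of_notMem {L : Type u} [Field L] [NumberField L] [Algebra K L] [Algebra k L]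
    {S : Finset (HeightOneSpectrum (𝓞 k))}
    (hS : ∀ Q : Ideal (𝓞 L), Q.IsPrime → Q ≠ ⊥ →
      Q.ramificationIdx (𝓞 K) ≠ 1 → ∃ v ∈ S, Q.LiesOver v.asIdeal)
    (hv : v ∉ S) (Q : Ideal (𝓞 L)) (hQ : Q.IsPrime) (hQv : Q.LiesOver v.asIdeal) :
    Q.ramificationIdx (𝓞 K) = 1 := by
  by_contra h
  obtain ⟨v', hv', hQv'⟩ := hS Q hQ (Ideal.ne_bot_of_liesOver_of_ne_bot v.ne_bot Q) h
  exact hv (place_unique hQv hQv' ▸ hv')

end Groth.UnramNorm
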