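import Mathlib
import Groth.Agent.UnramNorm.Data
import Groth.Agent.StrongApx.NormValues
import Groth.Agent.S19283

/-!
Tools for locally split values: exact norms, small elements, traces, split places.
-/

namespace Groth.UnramNorm

open scoped TensorProduct Topology
open NumberField IsDedekindDomain WithZero Filter

attribute [local instance] tAlg

universe u

/-! ### Norms over a base change of the field itself -/

section norm

variable (K L R : Type u) [Field K] [Field L] [Algebra K L] [FiniteDimensional K L] [Field R] [Algebra K R]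

theorem norm_eq_algebraMap {x : R ⊗[K] L} {c : K}
    (h : Algebra.norm (R ⊗[K] K) x = (1 : R) ⊗ₜ[K] c) : Algebra.norm R x = algebraMap K R c := by
  classical
  haveI := isScalarTower K K L R
  haveI : Module.Free (R ⊗[K] K) (R ⊗[K] L) := Module.Free.of_basis (basisT (Module.finBasis K L))
  haveI : Module.Finite (R ⊗[K] K) (R ⊗[K] L) := Module.Finite.of_basis (basisT (Module.finBasis K L))
  rw [← Algebra.norm_norm (R := R) (S := R ⊗[K] K) (a := x), h,
    show (1 : R) ⊗ₜ[K] c = algebraMap K R c ⊗ₜ[K] (1 : K) from (Algebra.TensorProduct.tmul_one_eq_one_tmul c).symm,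
    show algebraMap K R c ⊗ₜ[K] (1 : K) = algebraMap R (R ⊗[K] K) (algebraMap K R c) from rfl,
    Algebra.norm_algebraMap, Module.finrank_baseChange, Module.finrank_self, pow_one]

theorem norm_one_tmul_self (l : L) :
    Algebra.norm R ((1 : R) ⊗ₜ[K] l) = algebraMap K R (Algebra.norm K l) :=
  norm_eq_algebraMap K L R (norm_one_tmul K K L R l)

end norm

variable {k : Type u} [Field k] [NumberField k] {K : Type u} [Field K] [NumberField K] [Algebra k K]

theorem algebraMap_ne_zero' {x : k} (hx : x ≠ 0) : algebraMap k K x ≠ 0 := (_root_.map_ne_zero _).2 hx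

theorem finite_places (v : HeightOneSpectrum (𝓞 k)) :
    Finite {W : HeightOneSpectrum (𝓞 K) // W.asIdeal.LiesOver v.asIdeal} := by
  haveI : v.asIdeal.IsMaximal := v.isMaximal
  haveI := (IsDedekindDomain.primesOver_finite (p := v.asIdeal) (B := 𝓞 K)).to_subtype
  exact Finite.of_injective (fun W => (⟨W.1.asIdeal, ⟨W.1.isPrime, W.2⟩⟩ : v.asIdeal.primesOver (𝓞 K)))
    fun W W' h => Subtype.ext (HeightOneSpectrum.ext (congrArg Subtype.val h))

theorem valued_algebraMap (v : HeightOneSpectrum (𝓞 k)) (x : k) :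
    Valued.v (algebraMap k (v.adicCompletion k) x) = v.valuation k x :=
  HeightOneSpectrum.valuedAdicCompletion_eq_valuation' v x

theorem norm_algebraMap_completion (w : InfinitePlace k) (x : k) : ‖algebraMap k w.Completion x‖ = w x := by
  rw [InfinitePlace.Completion.algebraMap_apply]
  exact (InfinitePlace.Completion.norm_coe w ((WithAbs.equiv w.1).symm x)).trans
    (congrArg w ((WithAbs.equiv w.1).apply_symm_apply _))

theorem infinitePlace_algebraMap {w : InfinitePlace k} {W : InfinitePlace K}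
    (hW : W.comap (algebraMap k K) = w) (x : k) : W (algebraMap k K x) = w x := by
  rw [← hW]; rfl

theorem isOpen_valued_le (v : HeightOneSpectrum (𝓞 k)) {x : k} (hx : x ≠ 0) (c : v.adicCompletion k) :
    IsOpen {s : v.adicCompletion k | Valued.v (s - c) ≤ v.valuation k x} := by
  have hset : {s : v.adicCompletion k | Valued.v (s - c) ≤ v.valuation k x} =
      (fun s => s - c) ⁻¹' {s | Valued.v.restrict s ≤ Valued.v.restrict (algebraMap k (v.adicCompletion k) x)} := by
    ext s
    rw [Set.mem_ofPred_eq, Set.mem_preimage, Set.mem_ofPred_eq, Valuation.restrict_le_iff, valued_algebraMap]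
  rw [hset]
  refine (Valued.isOpen_closedBall _ (fun h => ?_)).preimage (by fun_prop)
  rw [Valuation.restrict_eq_zero_iff, valued_algebraMap, Valuation.zero_iff] at h
  exact hx h

theorem mem_nhds_valued (v : HeightOneSpectrum (𝓞 k)) {c : v.adicCompletion k} {U : Set (v.adicCompletion k)}
    (hU : IsOpen U) (hc : c ∈ U) :
    ∃ δ : k, δ ≠ 0 ∧ ∀ s, Valued.v (s - c) ≤ v.valuation k δ → s ∈ U := by
  obtain ⟨γ, hγ⟩ := Valued.mem_nhds.1 (hU.mem_nhds hc)
  obtain ⟨e, he⟩ := StrongApx.exists_exp_neg_lt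
    ((_root_.map_ne_zero (MonoidWithZeroHom.ValueGroup₀.embedding)).2 (Units.ne_zero γ))
  obtain ⟨δ, hδ⟩ := v.valuation_surjective k (exp (-(e : ℤ)))
  refine ⟨δ, fun h => exp_ne_zero (a := (-(e : ℤ))) (by rw [← hδ, h, map_zero]), fun s hs => hγ ?_⟩
  rw [Set.mem_ofPred_eq, Valuation.restrict_lt_iff_lt_embedding]
  exact lt_of_le_of_lt (hs.trans_eq hδ) he

/-- A multiplier making finitely many given elements integral over `v`. -/
theorem exists_integralizer (v : HeightOneSpectrum (𝓞 k)) {J : Type*} [Finite J] (z : J → K) :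
    ∃ D : k, D ≠ 0 ∧ ∀ j, ∀ W : HeightOneSpectrum (𝓞 K), W.asIdeal.LiesOver v.asIdeal →
      W.valuation K (algebraMap k K D * z j) ≤ 1 := by
  classical
  haveI := finite_places (K := K) v
  let I := J × {W : HeightOneSpectrum (𝓞 K) // W.asIdeal.LiesOver v.asIdeal}
  haveI := Fintype.ofFinite I
  have h : ∀ p : I, ∃ e : ℕ, exp (-(e : ℤ)) < (max (p.2.1.valuation K (z p.1)) 1)⁻¹ := fun p =>
    StrongApx.exists_exp_neg_lt (inv_ne_zero (ne_of_gt (lt_of_lt_of_le zero_lt_one (le_max_right _ _))))
  choose e he using h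
  obtain ⟨D, hD⟩ := v.valuation_surjective k (exp (-((∑ p, e p : ℕ) : ℤ)))
  refine ⟨D, fun h => exp_ne_zero (a := (-((∑ p, e p : ℕ) : ℤ))) (by rw [← hD, h, map_zero]), fun j W hW => ?_⟩
  have hM : (0 : ℤᵐ⁰) < max (W.valuation K (z j)) 1 := lt_of_lt_of_le zero_lt_one (le_max_right _ _)
  rw [map_mul]
  calc W.valuation K (algebraMap k K D) * W.valuation K (z j)
      ≤ exp (-((∑ p, e p : ℕ) : ℤ)) * max (W.valuation K (z j)) 1 :=
        mul_le_mul' (valuation_le_exp hW hD.le) (le_max_left _ _)
    _ ≤ (max (W.valuation K (z j)) 1)⁻¹ * max (W.valuation K (z j)) 1 := by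
        refine mul_le_mul_of_nonneg_right (le_trans ?_ (he (j, ⟨W, hW⟩)).le) zero_le
        rw [exp_le_exp]
        have := Finset.single_le_sum (f := e) (fun _ _ => Nat.zero_le _) (Finset.mem_univ ((j, ⟨W, hW⟩) : I))
        omega
    _ = 1 := inv_mul_cancel₀ hM.ne'

/-- The trace of an element integral over `v` is integral at `v`. -/
theorem valuation_trace_le_one (v : HeightOneSpectrum (𝓞 k)) (y : K)
    (hy : ∀ W : HeightOneSpectrum (𝓞 K), W.asIdeal.LiesOver v.asIdeal → W.valuation K y ≤ 1) :
    v.valuation k (Algebra.trace k K y) ≤ 1 := by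
  obtain ⟨s, hs, a, ha⟩ := exists_mul_eq_integer v y hy
  have h : algebraMap (𝓞 k) k s * Algebra.trace k K y = algebraMap (𝓞 k) k (Algebra.intTrace (𝓞 k) (𝓞 K) a) := by
    rw [Algebra.algebraMap_intTrace (A := 𝓞 k) (B := 𝓞 K) (K := k) (L := K), ← RingOfIntegers.coe_eq_algebraMap a,
      ← ha, IsScalarTower.algebraMap_apply (𝓞 k) k K, mul_comm y, ← Algebra.smul_def (algebraMap (𝓞 k) k s) y, LinearMap.map_smul, smul_eq_mul]
  have h' := congrArg (v.valuation k) h
  rw [map_mul, (v.valuation_eq_one_iff_notMem (K := k)).2 hs, one_mul] at h'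
  exact h'.trans_le (v.valuation_le_one _)

theorem valuation_trace_le (v : HeightOneSpectrum (𝓞 k)) (y : K) {δ : k} (hδ : δ ≠ 0)
    (hy : ∀ W : HeightOneSpectrum (𝓞 K), W.asIdeal.LiesOver v.asIdeal →
      W.valuation K y ≤ W.valuation K (algebraMap k K δ)) :
    v.valuation k (Algebra.trace k K y) ≤ v.valuation k δ := by
  have h := valuation_trace_le_one v (algebraMap k K δ⁻¹ * y) fun W hW => by
    rw [map_mul, map_inv₀, map_inv₀, inv_mul_le_one₀ (zero_lt_iff.2 ((Valuation.ne_zero_iff _).2 (algebraMap_ne_zero' hδ)))]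
    exact hy W hW
  rwa [← Algebra.smul_def, map_smul, smul_eq_mul, map_mul, map_inv₀,
    inv_mul_le_one₀ (zero_lt_iff.2 ((Valuation.ne_zero_iff _).2 hδ))] at h

theorem infinitePlace_trace_le (w : InfinitePlace k) (y : K) (η : ℝ)
    (hy : ∀ W : InfinitePlace K, W.comap (algebraMap k K) = w → W y ≤ η) :
    w (Algebra.trace k K y) ≤ Module.finrank k K * η := by
  let : Algebra k ℂ := w.embedding.toAlgebra
  haveI : FiniteDimensional k K := Module.Finite.of_restrictScalars_finite ℚ k K
  have h := trace_eq_sum_embeddings (K := k) (L := K) ℂ (x := y)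
  rw [← InfinitePlace.norm_embedding_eq, show w.embedding (Algebra.trace k K y) = algebraMap k ℂ (Algebra.trace k K y) from rfl, h]
  refine (norm_sum_le _ _).trans ((Finset.sum_le_sum (g := fun _ => η) fun σ _ => ?_).trans_eq ?_)
  · rw [show ‖σ y‖ = InfinitePlace.mk σ.toRingHom y from (InfinitePlace.apply σ.toRingHom y).symm]
    refine hy _ ?_
    rw [InfinitePlace.comap_mk, show σ.toRingHom.comp (algebraMap k K) = w.embedding from RingHom.ext σ.commutes,
      InfinitePlace.mk_embedding]
  · rw [Finset.sum_const, Finset.card_univ, AlgHom.card, nsmul_eq_mul]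

/-! ### Places splitting completely -/

theorem exists_split_place (p : Polynomial k) (P : Finset (HeightOneSpectrum (𝓞 k))) :
    ∃ v : HeightOneSpectrum (𝓞 k), v ∉ P ∧ ∀ (K : Type u) [Field K] [NumberField K] [Algebra k K]
      (W : HeightOneSpectrum (𝓞 K)), W.asIdeal.LiesOver v.asIdeal →
        (p.map (algebraMap k (W.adicCompletion K))).Splits := by
  classical
  let M := p.SplittingField
  obtain ⟨θ, hθ⟩ := Field.exists_primitive_element k M
  have hi : IsIntegral k θ := IsIntegral.of_finite k θ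
  obtain ⟨a, b, hab⟩ : IsCoprime (minpoly k θ) (Polynomial.derivative (minpoly k θ)) :=
    ((minpoly.irreducible hi).separable :)
  let Q : Finset (Polynomial k) := {minpoly k θ, a, b}
  let Bad : Set (HeightOneSpectrum (𝓞 k)) := (P : Set _) ∪
    ⋃ q ∈ Q, ⋃ i ∈ q.support, HeightOneSpectrum.Support _ (q.coeff i)
  have hBad : Bad.Finite := P.finite_toSet.union ((Finset.finite_toSet _).biUnion fun q _ =>
    (Finset.finite_toSet _).biUnion fun i _ => HeightOneSpectrum.Support.finite _ _)
  obtain ⟨v, hv, c, hc, hlt⟩ := StrongApx.exists_place_root k (minpoly k θ) (minpoly.natDegree_pos hi) hBad.toFinset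
  rw [hBad.mem_toFinset] at hv
  have hint : ∀ q ∈ Q, ∀ i, v.valuation k (q.coeff i) ≤ 1 := by
    intro q hq i
    by_cases hqi : i ∈ q.support
    · exact not_lt.1 fun h => hv (Or.inr (Set.mem_biUnion hq (Set.mem_biUnion hqi h)))
    · rw [Polynomial.notMem_support_iff.1 hqi, map_zero]; exact zero_le
  refine ⟨v, fun h => hv (Or.inl h), fun K _ _ _ W hW => ?_⟩
  let φ := algebraMap k K
  have hint' : ∀ q ∈ Q, ∀ i, W.valuation K ((q.map φ).coeff i) ≤ 1 := fun q hq i => by
    rw [Polynomial.coeff_map]; exact valuation_le_one hW (hint q hq i)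
  have hlt' : W.valuation K (((minpoly k θ).map φ).eval (φ c)) < 1 := by
    rw [Polynomial.eval_map, Polynomial.eval₂_hom]
    obtain ⟨e, he0, he⟩ := valuation_eq_pow hW
    rw [he]
    exact pow_lt_one₀ zero_le hlt he0
  obtain ⟨ρ, hρ⟩ := StrongApx.exists_root_completion K W ((minpoly k θ).map φ) (a.map φ) (b.map φ)
    (by rw [Polynomial.derivative_map, ← Polynomial.map_mul, ← Polynomial.map_mul, ← Polynomial.map_add, hab,
      Polynomial.map_one])
    (hint' _ (by simp [Q])) (hint' _ (by simp [Q])) (hint' _ (by simp [Q])) (φ c) (valuation_le_one hW hc) hlt'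
  rw [Polynomial.aeval_map_algebraMap] at hρ
  obtain ⟨ι⟩ := StrongApx.nonempty_algHom_of_root k (W.adicCompletion K) θ hθ ρ hρ
  rw [← ι.comp_algebraMap, ← Polynomial.map_map]
  exact (Polynomial.SplittingField.splits p).map _

theorem nonempty_algHom_of_splits {L : Type u} [Field L] [Algebra K L] [Algebra k L] [IsScalarTower k K L]
    [FiniteDimensional K L] [FiniteDimensional k L] (θ : L) (hθ : IntermediateField.adjoin K {θ} = ⊤)
    {p : Polynomial k} (hp : p ≠ 0) (hdvd : minpoly k θ ∣ p)
    (R : Type u) [Field R] [Algebra K R] [Algebra k R] [IsScalarTower k K R]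
    (h : (p.map (algebraMap k R)).Splits) : Nonempty (L →ₐ[K] R) := by
  have hi : IsIntegral K θ := IsIntegral.of_finite K θ
  have h1 : ((minpoly k θ).map (algebraMap k R)).Splits :=
    h.of_dvd ((Polynomial.map_ne_zero_iff (algebraMap k R).injective).2 hp) (Polynomial.map_dvd _ hdvd)
  rw [IsScalarTower.algebraMap_eq k K R, ← Polynomial.map_map] at h1
  have h2 : ((minpoly K θ).map (algebraMap K R)).Splits :=
    h1.of_dvd (Polynomial.map_ne_zero (Polynomial.map_ne_zero (minpoly.ne_zero (IsIntegral.of_finite k θ))))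
      (Polynomial.map_dvd _ (minpoly.dvd_map_of_isScalarTower k K θ))
  obtain ⟨ρ, hρ⟩ := h2.exists_eval_eq_zero (by
    rw [Polynomial.degree_map]; exact (minpoly.degree_pos hi).ne')
  rw [Polynomial.eval_map, ← Polynomial.aeval_def] at hρ
  exact StrongApx.nonempty_algHom_of_root K R θ hθ ρ hρ

end Groth.UnramNorm
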