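import Mathlib
import Groth.Agent.UnramNorm.SplitValue

/-!
Rational norms near given local norms, and values near local norms with split places.
-/

namespace Groth.UnramNorm

open scoped TensorProduct Topology
open NumberField IsDedekindDomain Filter

attribute [local instance] tAlg

universe u

variable {k : Type u} [Field k] [NumberField k] {K L : Type u} [Field K] [NumberField K] [Field L] [NumberField L]
  [Algebra k K] [Algebra K L] [Algebra k L] [IsScalarTower k K L]

theorem exists_norm_near_aux (R : Type u) [Field R] [Algebra k R] [TopologicalSpace R] [IsTopologicalRing R]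
    [T2Space R] (hdense : DenseRange (algebraMap k R)) [TopologicalSpace (R ⊗[k] K)] [IsModuleTopology R (R ⊗[k] K)]
    {a b : K} (hb : b ≠ 0) {t : R} {x : R ⊗[k] L} (hxu : IsUnit x)
    (hx : Algebra.norm (R ⊗[k] K) x = (1 : R) ⊗ₜ[k] b * (t ⊗ₜ[k] (1 : K) - (1 : R) ⊗ₜ[k] a))
    {O : Set (R ⊗[k] K)} (hO : IsOpen O) (h0 : (0 : R ⊗[k] K) ∈ O) :
    ∃ N : Set R, IsOpen N ∧ t ∈ N ∧ ∀ t' : k, algebraMap k R t' ∈ N →
      ∃ y : L, Algebra.norm K y ≠ 0 ∧
        (1 : R) ⊗ₜ[k] (Algebra.norm K y / b - (algebraMap k K t' - a)) ∈ O := by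
  classical
  haveI : FiniteDimensional k K := Module.Finite.of_restrictScalars_finite ℚ k K
  haveI : FiniteDimensional k L := Module.Finite.of_restrictScalars_finite ℚ k L
  haveI : FiniteDimensional K L := Module.Finite.of_restrictScalars_finite ℚ K L
  letI tU : TopologicalSpace (R ⊗[k] L) := moduleTopology R (R ⊗[k] L)
  haveI : IsModuleTopology R (R ⊗[k] L) := ⟨rfl⟩
  haveI : ContinuousAdd (R ⊗[k] L) := IsModuleTopology.toContinuousAdd R _
  haveI : ContinuousSMul R (R ⊗[k] L) := IsModuleTopology.toContinuousSMul R _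
  haveI : IsTopologicalRing (R ⊗[k] K) := IsModuleTopology.isTopologicalRing R _
  haveI : T2Space (R ⊗[k] K) := by
    let b := Module.finBasis R (R ⊗[k] K)
    exact T2Space.of_injective_continuous b.equivFun.injective
      (IsModuleTopology.continuous_of_linearMap b.equivFun.toLinearMap)
  let Bk := Module.finBasis k L
  let B' := Algebra.TensorProduct.basis R Bk
  let toU : (Fin (Module.finrank k L) → R) →ₗ[R] R ⊗[k] L := B'.equivFun.symm.toLinearMap
  let F : (Fin (Module.finrank k L) → R) × R → R ⊗[k] K := fun p =>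
    (1 : R) ⊗ₜ[k] b⁻¹ * Algebra.norm (R ⊗[k] K) (toU p.1) - (algebraMap R (R ⊗[k] K) p.2 - (1 : R) ⊗ₜ[k] a)
  have hN : Continuous fun p : (Fin (Module.finrank k L) → R) × R => Algebra.norm (R ⊗[k] K) (toU p.1) :=
    (continuous_norm k K L R).comp ((IsModuleTopology.continuous_of_linearMap toU).comp continuous_fst)
  have hF : Continuous F := (continuous_const.mul hN).sub
    (((IsModuleTopology.continuous_of_linearMap (Algebra.linearMap R (R ⊗[k] K))).comp continuous_snd).sub continuous_const)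
  have hne : Algebra.norm (R ⊗[k] K) x ≠ 0 := (hxu.map _).ne_zero
  have hop : IsOpen (F ⁻¹' O ∩ (fun p => Algebra.norm (R ⊗[k] K) (toU p.1)) ⁻¹' {0}ᶜ) :=
    (hO.preimage hF).inter (isOpen_compl_singleton.preimage hN)
  have hmem : (B'.equivFun x, t) ∈ F ⁻¹' O ∩ (fun p => Algebra.norm (R ⊗[k] K) (toU p.1)) ⁻¹' {0}ᶜ := by
    have e : toU (B'.equivFun x) = x := B'.equivFun.symm_apply_apply x
    refine ⟨?_, show Algebra.norm (R ⊗[k] K) (toU (B'.equivFun x)) ≠ 0 by rw [e]; exact hne⟩
    show F (B'.equivFun x, t) ∈ O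
    simp only [F, e, hx, ← mul_assoc, Algebra.TensorProduct.tmul_mul_tmul, one_mul, inv_mul_cancel₀ hb]
    rw [show algebraMap R (R ⊗[k] K) t = t ⊗ₜ[k] (1 : K) from rfl,
      show ((1 : R) ⊗ₜ[k] (1 : K)) = 1 from rfl, one_mul, sub_self]
    exact h0
  obtain ⟨A, N, hA, hNo, hxA, htN, hsub⟩ := isOpen_prod_iff.1 hop _ _ hmem
  refine ⟨N, hNo, htN, fun t' ht' => ?_⟩
  obtain ⟨ξ, hξ⟩ := (DenseRange.piMap fun _ : Fin (Module.finrank k L) => hdense).exists_mem_open hA ⟨_, hxA⟩
  have hy : toU (Pi.map (fun _ => algebraMap k R) ξ) = (1 : R) ⊗ₜ[k] (∑ l, ξ l • Bk l) := by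
    show B'.equivFun.symm _ = _
    rw [Module.Basis.equivFun_symm_apply, TensorProduct.tmul_sum]
    refine Finset.sum_congr rfl fun l _ => ?_
    rw [Algebra.TensorProduct.basis_apply, Pi.map_apply, TensorProduct.tmul_smul, algebraMap_smul]
  obtain ⟨h1, h2⟩ := hsub (Set.mk_mem_prod hξ ht')
  simp only [Set.mem_preimage, Set.mem_compl_iff, Set.mem_singleton_iff, hy, norm_one_tmul k K L R] at h2
  refine ⟨∑ l, ξ l • Bk l, fun h => h2 (by rw [h, TensorProduct.tmul_zero]), ?_⟩
  simp only [Set.mem_preimage, F, hy, norm_one_tmul k K L R, Algebra.TensorProduct.tmul_mul_tmul, one_mul] at h1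
  rw [show algebraMap R (R ⊗[k] K) (algebraMap k R t') = algebraMap k R t' ⊗ₜ[k] (1 : K) from rfl,
    Algebra.TensorProduct.tmul_one_eq_one_tmul, ← TensorProduct.tmul_sub, ← TensorProduct.tmul_sub] at h1
  rwa [div_eq_inv_mul]

theorem exists_norm_near_finite (v : HeightOneSpectrum (𝓞 k)) {a b : K} (hb : b ≠ 0)
    {t : v.adicCompletion k} {x : v.adicCompletion k ⊗[k] L} (hxu : IsUnit x)
    (hx : Algebra.norm (v.adicCompletion k ⊗[k] K) x =
      (1 : v.adicCompletion k) ⊗ₜ[k] b * (t ⊗ₜ[k] (1 : K) - (1 : v.adicCompletion k) ⊗ₜ[k] a))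
    {δ : k} (hδ : δ ≠ 0) :
    ∃ N : Set (v.adicCompletion k), IsOpen N ∧ t ∈ N ∧ ∀ t' : k, algebraMap k (v.adicCompletion k) t' ∈ N →
      ∃ y : L, Algebra.norm K y ≠ 0 ∧ ∀ W : HeightOneSpectrum (𝓞 K), W.asIdeal.LiesOver v.asIdeal →
        W.valuation K (Algebra.norm K y / b - (algebraMap k K t' - a)) ≤ W.valuation K (algebraMap k K δ) := by
  classical
  haveI : FiniteDimensional k K := Module.Finite.of_restrictScalars_finite ℚ k K
  let bk := Module.finBasis k K
  obtain ⟨D, hD0, hD⟩ := exists_integralizer v fun j => bk j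
  letI : TopologicalSpace (v.adicCompletion k ⊗[k] K) := moduleTopology (v.adicCompletion k) _
  haveI : IsModuleTopology (v.adicCompletion k) (v.adicCompletion k ⊗[k] K) := ⟨rfl⟩
  let B' := Algebra.TensorProduct.basis (v.adicCompletion k) bk
  let O : Set (v.adicCompletion k ⊗[k] K) :=
    ⋂ j, (B'.coord j) ⁻¹' {s | Valued.v (s - 0) ≤ v.valuation k (δ * D)}
  have hO : IsOpen O := isOpen_iInter_of_finite fun j =>
    (isOpen_valued_le v (mul_ne_zero hδ hD0) 0).preimage (IsModuleTopology.continuous_of_linearMap _)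
  obtain ⟨N, hN, htN, hmain⟩ := exists_norm_near_aux (v.adicCompletion k) (v.denseRange_algebraMap k) hb hxu hx hO
    (Set.mem_iInter.2 fun j => by simp)
  refine ⟨N, hN, htN, fun t' ht' => ?_⟩
  obtain ⟨y, hy0, hy⟩ := hmain t' ht'
  refine ⟨y, hy0, fun W hW => ?_⟩
  generalize Algebra.norm K y / b - (algebraMap k K t' - a) = z at hy
  rw [← bk.sum_repr z]
  refine Valuation.map_sum_le _ fun j _ => ?_
  have hj := Set.mem_iInter.1 hy j
  simp only [Set.mem_preimage, Set.mem_ofPred_eq, sub_zero, B', Module.Basis.coord_apply,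
    Algebra.TensorProduct.basis_repr_tmul, one_smul, Finsupp.mapRange_apply, valued_algebraMap] at hj
  obtain ⟨e, -, he⟩ := valuation_eq_pow hW
  rw [Algebra.smul_def, map_mul, he (bk.repr z j)]
  calc v.valuation k (bk.repr z j) ^ e * W.valuation K (bk j)
      ≤ v.valuation k (δ * D) ^ e * W.valuation K (bk j) :=
        mul_le_mul_of_nonneg_right (pow_le_pow_left₀ zero_le hj e) zero_le
    _ = W.valuation K (algebraMap k K δ) * W.valuation K (algebraMap k K D * bk j) := by
        rw [← he, map_mul (algebraMap k K), map_mul, map_mul (W.valuation K) (algebraMap k K D), mul_assoc]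
    _ ≤ W.valuation K (algebraMap k K δ) := mul_le_of_le_one_right zero_le (hD j W hW)

theorem exists_norm_near_infinite (w : InfinitePlace k) {a b : K} (hb : b ≠ 0)
    {t : w.Completion} {x : w.Completion ⊗[k] L} (hxu : IsUnit x)
    (hx : Algebra.norm (w.Completion ⊗[k] K) x =
      (1 : w.Completion) ⊗ₜ[k] b * (t ⊗ₜ[k] (1 : K) - (1 : w.Completion) ⊗ₜ[k] a))
    {η : ℝ} (hη : 0 < η) :
    ∃ N : Set w.Completion, IsOpen N ∧ t ∈ N ∧ ∀ t' : k, algebraMap k w.Completion t' ∈ N →
      ∃ y : L, Algebra.norm K y ≠ 0 ∧ ∀ W : InfinitePlace K, W.comap (algebraMap k K) = w →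
        W (Algebra.norm K y / b - (algebraMap k K t' - a)) < η := by
  classical
  haveI : FiniteDimensional k K := Module.Finite.of_restrictScalars_finite ℚ k K
  let bk := Module.finBasis k K
  let C : ℝ := 1 + ∑ W : InfinitePlace K, ∑ j, W (bk j)
  have hsum : (0 : ℝ) ≤ ∑ W : InfinitePlace K, ∑ j, W (bk j) :=
    Finset.sum_nonneg fun W _ => Finset.sum_nonneg fun j _ => apply_nonneg W _
  have hC : 0 < C := add_pos_of_pos_of_nonneg one_pos hsum
  letI : TopologicalSpace (w.Completion ⊗[k] K) := moduleTopology w.Completion _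
  haveI : IsModuleTopology w.Completion (w.Completion ⊗[k] K) := ⟨rfl⟩
  let B' := Algebra.TensorProduct.basis w.Completion bk
  let O : Set (w.Completion ⊗[k] K) := ⋂ j, (B'.coord j) ⁻¹' Metric.ball 0 (η / C)
  have hO : IsOpen O := isOpen_iInter_of_finite fun j =>
    Metric.isOpen_ball.preimage (IsModuleTopology.continuous_of_linearMap _)
  have hdense : DenseRange (algebraMap k w.Completion) := by
    have h := DenseRange.comp (g := fun z : InfiniteAdeleRing k => z w)
      (Function.surjective_eval w).denseRange (InfiniteAdeleRing.denseRange_algebraMap k) (continuous_apply w)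
    exact h
  obtain ⟨N, hN, htN, hmain⟩ := exists_norm_near_aux w.Completion hdense hb hxu hx hO
    (Set.mem_iInter.2 fun j => by simp [div_pos hη hC])
  refine ⟨N, hN, htN, fun t' ht' => ?_⟩
  obtain ⟨y, hy0, hy⟩ := hmain t' ht'
  refine ⟨y, hy0, fun W hW => ?_⟩
  generalize Algebra.norm K y / b - (algebraMap k K t' - a) = z at hy
  rw [← bk.sum_repr z]
  refine (W.1.sum_le _ _).trans_lt ?_
  calc ∑ j, W (bk.repr z j • bk j) ≤ ∑ j, η / C * W (bk j) := Finset.sum_le_sum fun j _ => by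
        have hj := Set.mem_iInter.1 hy j
        simp only [Set.mem_preimage, mem_ball_zero_iff, B', Module.Basis.coord_apply,
          Algebra.TensorProduct.basis_repr_tmul, one_smul, Finsupp.mapRange_apply, norm_algebraMap_completion] at hj
        rw [Algebra.smul_def, map_mul, infinitePlace_algebraMap hW]
        exact mul_le_mul_of_nonneg_right hj.le (apply_nonneg W _)
    _ = η / C * ∑ j, W (bk j) := (Finset.mul_sum _ _ _).symm
    _ < η / C * C := mul_lt_mul_of_pos_left (lt_of_le_of_lt (Finset.single_le_sum (f := fun W : InfinitePlace K => ∑ j, W (bk j))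
        (fun W _ => Finset.sum_nonneg fun j _ => apply_nonneg W _) (Finset.mem_univ W)) (lt_one_add _)) (div_pos hη hC)
    _ = η := div_mul_cancel₀ η hC.ne'

variable (L) in
omit [Algebra k L] [IsScalarTower k K L] in
/-- A value near given local norms whose places are units or split. -/
theorem exists_value (v₀ : HeightOneSpectrum (𝓞 k)) (S : Finset (HeightOneSpectrum (𝓞 k))) (hv₀ : v₀ ∉ S)
    (hsplit : ∀ W : HeightOneSpectrum (𝓞 K), W.asIdeal.LiesOver v₀.asIdeal → Nonempty (L →ₐ[K] W.adicCompletion K))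
    (r : HeightOneSpectrum (𝓞 k) → K) (hr0 : ∀ v ∈ S, r v ≠ 0)
    (hr : ∀ v ∈ S, ∀ W : HeightOneSpectrum (𝓞 K), W.asIdeal.LiesOver v.asIdeal →
      ∃ x : W.adicCompletion K ⊗[K] L, Algebra.norm (W.adicCompletion K) x = algebraMap K (W.adicCompletion K) (r v))
    (δ : HeightOneSpectrum (𝓞 k) → k) (hδ : ∀ v ∈ S, δ v ≠ 0)
    (Si : Finset (InfinitePlace k)) (ri : InfinitePlace k → K) (hri0 : ∀ w ∈ Si, ri w ≠ 0)
    (hri : ∀ w ∈ Si, ∀ W : InfinitePlace K, W.comap (algebraMap k K) = w →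
      ∃ x : W.Completion ⊗[K] L, Algebra.norm W.Completion x = algebraMap K W.Completion (ri w))
    (η : InfinitePlace k → ℝ) (hη : ∀ w ∈ Si, 0 < η w) :
    ∃ t : K, (∀ v ∈ S, ∀ W : HeightOneSpectrum (𝓞 K), W.asIdeal.LiesOver v.asIdeal →
        W.valuation K (t - r v) ≤ W.valuation K (algebraMap k K (δ v))) ∧
      (∀ w ∈ Si, ∀ W : InfinitePlace K, W.comap (algebraMap k K) = w → W (t - ri w) < η w) ∧
      ∀ (v : HeightOneSpectrum (𝓞 k)) (W : HeightOneSpectrum (𝓞 K)), v ∉ S → W.asIdeal.LiesOver v.asIdeal →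
        (v ≠ v₀ → W.valuation K t ≤ 1) ∧
        (W.valuation K t = 1 ∨ Nonempty (L →ₐ[K] W.adicCompletion K)) := by
  classical
  haveI := v₀.isMaximal
  choose pl hpl using fun W : HeightOneSpectrum (𝓞 K) => exists_place (k := k) W
  have hpl' : ∀ {v} {W : HeightOneSpectrum (𝓞 K)}, W.asIdeal.LiesOver v.asIdeal → pl W = v :=
    fun {v} {W} h => place_unique (hpl W) h
  have hfinS : {W : HeightOneSpectrum (𝓞 K) | pl W ∈ S}.Finite := by
    have : {W : HeightOneSpectrum (𝓞 K) | pl W ∈ S} ⊆ ⋃ v ∈ S, {W | W.asIdeal.LiesOver v.asIdeal} :=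
      fun W hW => Set.mem_biUnion hW (hpl W)
    refine ((Finset.finite_toSet S).biUnion fun v _ => ?_).subset this
    exact Set.finite_coe_iff.1 (finite_places (K := K) v)
  let SK := hfinS.toFinset
  let SiK := Finset.univ.filter fun W : InfinitePlace K => W.comap (algebraMap k K) ∈ Si
  obtain ⟨W₀, hW₀⟩ : ∃ W₀ : HeightOneSpectrum (𝓞 K), W₀.asIdeal.LiesOver v₀.asIdeal := by
    obtain ⟨Q, hQ⟩ := Ideal.nonempty_primesOver (S := 𝓞 K) (P := v₀.asIdeal)
    exact ⟨⟨Q, hQ.1, haveI := hQ.2; Ideal.ne_bot_of_liesOver_of_ne_bot v₀.ne_bot Q⟩, hQ.2⟩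
  have hW₀S : W₀ ∉ SK := by
    simp only [SK, Set.Finite.mem_toFinset, Set.mem_ofPred_eq, hpl' hW₀]
    exact hv₀
  obtain ⟨t, -, h1, h2, h3, h4⟩ := Groth.Agent.S19283.result K L SK SiK
    (fun W => algebraMap K _ (r (pl W))) (fun W => algebraMap K _ (ri (W.comap (algebraMap k K))))
    (fun W hW => by
      simp only [SK, Set.Finite.mem_toFinset, Set.mem_ofPred_eq] at hW
      exact ⟨(_root_.map_ne_zero _).2 (hr0 _ hW), hr _ hW W (hpl W)⟩)
    (fun W hW => by
      simp only [SiK, Finset.mem_filter, Finset.mem_univ, true_and] at hW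
      exact ⟨(_root_.map_ne_zero _).2 (hri0 _ hW), hri _ hW W rfl⟩)
    (fun W => {s | Valued.v (s - algebraMap K _ (r (pl W))) ≤ W.valuation K (algebraMap k K (δ (pl W)))})
    (fun W hW => by
      simp only [SK, Set.Finite.mem_toFinset, Set.mem_ofPred_eq] at hW
      exact ⟨isOpen_valued_le W (algebraMap_ne_zero' (hδ _ hW)) _, by simp⟩)
    (fun W => Metric.ball (algebraMap K _ (ri (W.comap (algebraMap k K)))) (η (W.comap (algebraMap k K))))
    (fun W hW => by
      simp only [SiK, Finset.mem_filter, Finset.mem_univ, true_and] at hW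
      exact ⟨Metric.isOpen_ball, Metric.mem_ball_self (hη _ hW)⟩)
    W₀ hW₀S (hsplit W₀ hW₀)
  refine ⟨t, fun v hv W hW => ?_, fun w hw W hW => ?_, fun v W hv hW => ?_⟩
  · have h := h1 W (by simp only [SK, Set.Finite.mem_toFinset, Set.mem_ofPred_eq, hpl' hW]; exact hv)
    rwa [Set.mem_ofPred_eq, hpl' hW, ← map_sub, valued_algebraMap] at h
  · have h := h2 W (by simp only [SiK, Finset.mem_filter, Finset.mem_univ, true_and, hW]; exact hw)
    rwa [Metric.mem_ball, hW, dist_eq_norm, ← map_sub, norm_algebraMap_completion] at h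
  · have hnot : W ∉ SK := by simp only [SK, Set.Finite.mem_toFinset, Set.mem_ofPred_eq, hpl' hW]; exact hv
    exact ⟨fun hne => h3 W hnot fun h => hne (place_unique hW (h ▸ hW₀)), h4 W hnot⟩

end Groth.UnramNorm
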